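import Cfsg.Agent.Lib.Golay.AutTwoCore

/-!
A criterion for an outer automorphism group of order two by two admissible pairs of images.
-/

set_option autoImplicit false
set_option linter.style.haveILetI false

namespace CfsgLib.Leech.OutPair

open Cfsg CfsgLib.Golay CfsgLib.Golay.AutTwo
open scoped Pointwise

/-- After an inner correction an automorphism sends `(x, u)` to one of the two admissible pairs. -/
theorem exists_pair_form {G : Type*} [Group G] [Finite G] {p n : ℕ} [Fact p.Prime] (x y u u0 : G)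
    (hcard : Nat.card G = p * n) (hn : ¬ p ∣ n) (hxo : orderOf x = p)
    (hcent : ∀ w : G, w * x = x * w → w ∈ Subgroup.zpowers x) (m : ℕ) (hyx : y * x = x ^ m * y)
    (hm : (m - 1).Coprime p) (hm1 : 1 ≤ m) (k0 : ℕ)
    (hfin : ∀ (φ : MulAut G) (k : ℕ), ¬ p ∣ k → φ y = y → φ x = x ^ k → ∃ g : G,
      (MulAut.conj g * φ) u = u ∧ (MulAut.conj g * φ) x = x ∨
      (MulAut.conj g * φ) u = u0 ∧ (MulAut.conj g * φ) x = x ^ k0)
    (φ : MulAut G) : ∃ g : G, (MulAut.conj g * φ) u = u ∧ (MulAut.conj g * φ) x = x ∨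
      (MulAut.conj g * φ) u = u0 ∧ (MulAut.conj g * φ) x = x ^ k0 := by
  classical
  have hxk : ∀ k : ℕ, ¬ p ∣ k → ∀ w : G, w * x ^ k = x ^ k * w → w * x = x * w := by
    intro k hk w hw
    obtain ⟨j, hj⟩ := exists_pow_eq_self_of_coprime (x := x) (n := k)
      (by rw [hxo]; exact ((Nat.Prime.coprime_iff_not_dvd Fact.out).2 hk).symm)
    rw [← hj]
    exact ((show Commute w (x ^ k) from hw).pow_right j).eq
  have hsyl : ∀ u : G, orderOf u = p → ∃ P : Sylow p G, (P : Subgroup G) = Subgroup.zpowers u := by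
    intro u hu
    have h1 : Nat.card (Subgroup.zpowers u) = p ^ 1 := by rw [Nat.card_zpowers, hu, pow_one]
    refine ⟨Sylow.ofCard (Subgroup.zpowers u) ?_, rfl⟩
    rw [h1, hcard, Nat.factorization_mul (Fact.out : p.Prime).ne_zero
      (fun h => hn (by rw [h]; exact dvd_zero p)), Finsupp.add_apply,
      Nat.factorization_eq_zero_of_not_dvd hn, Nat.Prime.factorization_self Fact.out]
  obtain ⟨P1, hP1⟩ := hsyl x hxo
  obtain ⟨P2, hP2⟩ := hsyl (φ x) ((orderOf_injective φ.toMonoidHom φ.injective x).trans hxo)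
  obtain ⟨a, ha⟩ := MulAction.exists_smul_eq G P2 P1
  have hmem : a * φ x * a⁻¹ ∈ Subgroup.zpowers x := by
    rw [← hP1, ← ha, Sylow.coe_subgroup_smul, hP2]
    exact ⟨_, Subgroup.mem_zpowers _, rfl⟩
  obtain ⟨k, hk'⟩ := (isOfFinOrder_of_finite x).mem_powers_iff_mem_zpowers.mpr hmem
  set ψ := MulAut.conj a * φ with hψ
  have hψx : ψ x = x ^ k := hk'.symm
  have hkp : ¬ p ∣ k := by
    intro hd
    have : ψ x = 1 := by rw [hψx, ← orderOf_dvd_iff_pow_eq_one, hxo]; exact hd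
    rw [map_eq_one_iff _ ψ.injective] at this
    rw [this, orderOf_one] at hxo
    exact (Fact.out : p.Prime).one_lt.ne hxo
  -- pin the image of `y`
  have hy : ψ y * x ^ k = x ^ (k * m) * ψ y := by
    rw [pow_mul, ← hψx, ← map_pow, ← map_mul, ← map_mul, hyx]
  have hyk : y * x ^ k = x ^ (k * m) * y := by
    have h1 : SemiconjBy y x (x ^ m) := hyx
    rw [mul_comm k m, pow_mul]
    exact (h1.pow_right k).eq
  have hcom : (y⁻¹ * ψ y) * x ^ k = x ^ k * (y⁻¹ * ψ y) := by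
    rw [mul_assoc, hy, ← mul_assoc, ← mul_assoc]
    refine congrArg (· * ψ y) ?_
    rw [inv_mul_eq_iff_eq_mul, ← mul_assoc, hyk, mul_inv_cancel_right]
  obtain ⟨i, hi⟩ := (isOfFinOrder_of_finite x).mem_powers_iff_mem_zpowers.mpr
    (hcent _ (hxk k hkp _ hcom))
  have hψy : ψ y = x ^ (i * m) * y := by
    have h1 : SemiconjBy y x (x ^ m) := hyx
    have hi' : x ^ i = y⁻¹ * ψ y := hi
    rw [show ψ y = y * x ^ i by rw [hi', mul_inv_cancel_left], mul_comm i m, pow_mul]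
    exact (h1.pow_right i).eq
  obtain ⟨l, hl⟩ := exists_pow_eq_self_of_coprime (x := x) (n := m - 1) (by rw [hxo]; exact hm)
  set j := l * (i * m) with hj
  have hji : x ^ ((m - 1) * j) = x ^ (i * m) := by
    rw [hj, ← mul_assoc, pow_mul, pow_mul x (m - 1) l, hl]
  set χ := MulAut.conj (x ^ j) * ψ with hχ
  have hχy : χ y = y := by
    have h1 : SemiconjBy y x (x ^ m) := hyx
    show x ^ j * ψ y * (x ^ j)⁻¹ = y
    rw [hψy, mul_inv_eq_iff_eq_mul, ← hji, ← mul_assoc, ← pow_add, (h1.pow_right j).eq, ← pow_mul]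
    congr 2
    obtain ⟨m', rfl⟩ := Nat.exists_eq_add_of_le hm1
    rw [Nat.add_sub_cancel_left]; ring
  have hχx : χ x = x ^ k := by
    show x ^ j * ψ x * (x ^ j)⁻¹ = x ^ k
    rw [hψx, ← pow_add, add_comm, pow_add, mul_inv_cancel_right]
  obtain ⟨g, hg⟩ := hfin χ k hkp hχy hχx
  refine ⟨g * x ^ j * a, ?_⟩
  have e0 : MulAut.conj (g * x ^ j * a) * φ = MulAut.conj g * χ := by
    simp only [hχ, hψ, map_mul, mul_assoc]
  rw [e0]
  exact hg

/-- At most one class of outer automorphisms, and a given outer one. -/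
theorem out_eq_two_of_pairs {G : Type*} [Group G] [Finite G] {p n : ℕ} [Fact p.Prime] (x y u u0 : G)
    (hcard : Nat.card G = p * n) (hn : ¬ p ∣ n) (hxo : orderOf x = p)
    (hcent : ∀ w : G, w * x = x * w → w ∈ Subgroup.zpowers x) (m : ℕ) (hyx : y * x = x ^ m * y)
    (hm : (m - 1).Coprime p) (hm1 : 1 ≤ m) (hgen : Subgroup.closure {x, u} = ⊤) (k0 : ℕ)
    (hfin : ∀ (φ : MulAut G) (k : ℕ), ¬ p ∣ k → φ y = y → φ x = x ^ k → ∃ g : G,
      (MulAut.conj g * φ) u = u ∧ (MulAut.conj g * φ) x = x ∨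
      (MulAut.conj g * φ) u = u0 ∧ (MulAut.conj g * φ) x = x ^ k0)
    (φ0 : MulAut G) (h0 : φ0 ∉ Cfsg.Inn G) : Nat.card (Cfsg.Out G) = 2 := by
  have hnf := exists_pair_form x y u u0 hcard hn hxo hcent m hyx hm hm1 k0 hfin
  have hext : ∀ φ χ : MulAut G, φ x = χ x → φ u = χ u → φ = χ := by
    intro φ χ h1 h2
    have h := MonoidHom.eq_of_eqOn_dense (f := φ.toMonoidHom) (g := χ.toMonoidHom) hgen
      (by rintro w (rfl | rfl) <;> assumption)
    exact MulEquiv.ext fun w => DFunLike.congr_fun h w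
  have hconj : ∀ g : G, MulAut.conj g ∈ Cfsg.Inn G := fun g => ⟨g, rfl⟩
  have hnon : ∀ θ : MulAut G, θ ∉ Cfsg.Inn G → ∃ g : G,
      (MulAut.conj g * θ) u = u0 ∧ (MulAut.conj g * θ) x = x ^ k0 := by
    intro θ hθ
    obtain ⟨g, ⟨h1, h2⟩ | h⟩ := hnf θ
    · refine absurd ?_ hθ
      have h3 : θ = (MulAut.conj g)⁻¹ := eq_inv_of_mul_eq_one_right (hext _ 1 h2 h1)
      rw [h3]; exact inv_mem (hconj g)
    · exact ⟨g, h⟩
  have hsame : ∀ φ χ : MulAut G, φ ∉ Cfsg.Inn G → χ ∉ Cfsg.Inn G → φ * χ⁻¹ ∈ Cfsg.Inn G := by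
    intro φ χ hφ hχ
    obtain ⟨g, g1, g2⟩ := hnon φ hφ
    obtain ⟨h, h1, h2⟩ := hnon χ hχ
    have he := hext _ _ (g2.trans h2.symm) (g1.trans h1.symm)
    have e1 : φ = (MulAut.conj g)⁻¹ * (MulAut.conj h * χ) := by rw [← he, inv_mul_cancel_left]
    rw [e1, mul_assoc, mul_assoc, mul_inv_cancel, mul_one]
    exact mul_mem (inv_mem (hconj g)) (hconj h)
  rw [Cfsg.Out, ← Subgroup.index_eq_card, Subgroup.index_eq_two_iff]
  refine ⟨φ0, fun b => ?_⟩
  by_cases hb : b ∈ Cfsg.Inn G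
  · exact Or.inr ⟨hb, fun h => h0 ((Subgroup.mul_mem_cancel_left _ hb).1 h)⟩
  · refine Or.inl ⟨?_, hb⟩
    simpa using hsame b φ0⁻¹ hb fun h => h0 (inv_mem_iff.1 h)

end CfsgLib.Leech.OutPair
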