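import Cfsg.Agent.Lib.Leech.OutPair.Data
import Cfsg.Agent.Lib.Leech.OutStab.GenFast

/-!
The checks of the two certificates.
-/

set_option autoImplicit false
set_option Elab.async false
set_option maxRecDepth 100000
set_option maxHeartbeats 4000000

namespace CfsgLib.Leech.OutPair

open CfsgLib.Golay CfsgLib.Leech CfsgLib.Leech.OutStab

theorem hs_base : hsCert.baseOK = true := by decide +kernel

theorem hs_fixed : hsCert.fixedOK = true := by decide +kernel

theorem hs_seps : hsCert.sepsOK = true := by decide +kernel

theorem hs_out : hsCert.outOK 2 [] = true := by decide +kernel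

theorem hs_prog : OutStab.slpOK hsT hsProg = true := by decide +kernel

theorem hs_lev0 : levFast hsT [] hsLev0 hsPack0 = true := by decide +kernel

theorem hs_levs_rest : levsOK hsT [hsLev0.b] [hsLev1, hsLev2, hsLev3] = true := by decide +kernel

theorem hs_levs : levsOK hsCert.T [] hsCert.levs = true := by
  show (OutStab.levOK hsT [] hsLev0 && levsOK hsT [hsLev0.b] [hsLev1, hsLev2, hsLev3]) = true
  rw [levOK_of_fast hs_lev0, hs_levs_rest]
  rfl

theorem hs_bound : bound hsCert.levs = 44352000 := by decide +kernel

end CfsgLib.Leech.OutPair
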