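import Cfsg.Agent.Lib.Leech.OutPair.Main
import Cfsg.Agent.Lib.Leech.Sub.Pairs

/-!
The two named stabilizers of pairs of vectors.
-/

set_option autoImplicit false
set_option maxRecDepth 10000

namespace CfsgLib.Leech.OutPair

open Cfsg CfsgLib.Golay CfsgLib.Leech CfsgLib.Leech.Mult

attribute [local irreducible] dL bL key keyL coord packB linL bits

variable {D : PairCert} (hV : inL D.V = true) (hW : inL D.W = true)

theorem natCard_pairG : Nat.card ↥(pairG hV hW) =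
    Nat.card ↥(MulAction.stabilizer ↥Co0 (⟨vec D.V, vec_mem hV⟩ : ↥leechLattice) ⊓
      MulAction.stabilizer ↥Co0 (⟨vec D.W, vec_mem hW⟩ : ↥leechLattice)) :=
  Nat.card_congr
    { toFun := fun g => ⟨g.1.1, g.1.2, g.2⟩
      invFun := fun g => ⟨⟨g.1, g.2.1⟩, g.2.2⟩
      left_inv := fun _ => rfl
      right_inv := fun _ => rfl }

/-- conjugation onto a subgroup of the permutations fixing two other vectors -/
noncomputable def pairEquiv (K : Subgroup (Equiv.Perm ↥leechLattice)) (h : ↥Co0)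
    (hK : ∀ g : ↥Co0, (g : Equiv.Perm ↥leechLattice) ∈ K ↔
      g • h • (⟨vec D.V, vec_mem hV⟩ : ↥leechLattice) = h • ⟨vec D.V, vec_mem hV⟩ ∧
      g • h • (⟨vec D.W, vec_mem hW⟩ : ↥leechLattice) = h • ⟨vec D.W, vec_mem hW⟩)
    (hle : K ≤ Co0) : ↥(pairG hV hW) ≃* ↥K where
  toFun g := ⟨((h * (g.1 : ↥Co0) * h⁻¹ : ↥Co0) : Equiv.Perm ↥leechLattice), (hK _).2 (by
    simp only [mul_smul, inv_smul_smul, MulAction.mem_stabilizer_iff.1 g.1.2, smul_W hV hW g.2, and_self])⟩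
  invFun y := ⟨⟨h⁻¹ * ⟨y.1, hle y.2⟩ * h, MulAction.mem_stabilizer_iff.2 (by
      rw [mul_smul, mul_smul, ((hK ⟨y.1, hle y.2⟩).1 y.2).1, inv_smul_smul])⟩,
    MulAction.mem_stabilizer_iff.2 (show (h⁻¹ * ⟨y.1, hle y.2⟩ * h) • (⟨vec D.W, vec_mem hW⟩ : ↥leechLattice) = ⟨vec D.W, vec_mem hW⟩ by
      rw [mul_smul, mul_smul, ((hK ⟨y.1, hle y.2⟩).1 y.2).2, inv_smul_smul])⟩
  left_inv g := Subtype.ext (Subtype.ext (Subtype.ext (by simp [mul_assoc])))
  right_inv y := Subtype.ext (by simp [mul_assoc])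
  map_mul' g g' := Subtype.ext (by simp [mul_assoc])

end CfsgLib.Leech.OutPair
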