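import Cfsg.Agent.Lib.Leech.OutStab.Rigid
import Cfsg.Agent.Lib.Golay.AutTwoCert

/-!
Certificates for the automorphisms of the stabilizer of two vectors.
-/

set_option autoImplicit false
set_option maxRecDepth 10000

namespace CfsgLib.Leech.OutPair

open Cfsg CfsgLib.Golay CfsgLib.Leech CfsgLib.Leech.Mult CfsgLib.Golay.AutTwo CfsgLib.Leech.OutStab

/-- data pinning the fixed classes of a table -/
structure FixData where
  /-- left inverse on the moved part -/
  A : List ℕ
  /-- projection on the fixed classes -/
  P : List ℕ
  /-- the fixed classes -/
  F : List ℕ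
  /-- for each fixed class a vector refuting it, or anything for an image of the cross -/
  wits : List (List ℤ)

/-- the vector separates the class from the orbit of the standard cross -/
def witPair (V W : List ℤ) (k : ℕ) (l : List ℤ) : Bool :=
  inL l && keyL l == k && (decide (dotL l l < 64) || (dotL l l == 64 && (List.range 24).all fun i =>
    (dotL l V).natAbs != 8 * (V.getD i 0).natAbs || (dotL l W).natAbs != 8 * (W.getD i 0).natAbs))

/-- the fixed classes are the given images of the cross, or are refuted -/
def FixData.ok (f : FixData) (V W : List ℤ) (t : List ℕ) (imgs : List ℕ) : Bool :=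
  mulC f.A t == xorL (xorL f.A pow2L) f.P && f.F.contains 0 &&
    f.P.all (fun p => p == 0 || f.F.all fun b => f.F.contains (p ^^^ b)) &&
    f.wits.length == f.F.length &&
    (f.F.zip f.wits).all (fun z => imgs.contains z.1 || witPair V W z.1 z.2)

/-- the data -/
structure PairCert where
  /-- the first vector -/
  V : List ℤ
  /-- the second vector -/
  W : List ℤ
  /-- images of the basis under the second generator -/
  wU : List (List ℤ)
  /-- images of the basis under an automorphism exchanging the vectors -/
  wH : List (List ℤ)
  /-- the table of its inverse -/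
  tHi : List ℕ
  /-- the exponent it induces on the element of order eleven -/
  e : ℕ
  /-- the second admissible exponent -/
  k0 : ℕ
  /-- the second admissible image of the second generator -/
  c0 : ℕ × ℕ
  /-- the program -/
  prog : List (ℕ × ℕ)
  /-- packed tables of its lines -/
  T : List ℕ
  /-- the base -/
  levs : List OutStab.Lev
  /-- fixed classes of the element of order five -/
  fY : FixData
  /-- separating words -/
  seps : List (List ℕ × ℕ)
  /-- fixed classes of the element of order eleven -/
  fX : FixData

/-- the table of the element of order eleven -/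
def tX : List ℕ := permTab elt22

/-- the table of the element of order five -/
def tY : List ℕ := permTab y22

/-- the permutation fixes the vector -/
def permFix (Q : ℕ) (V : List ℤ) : Bool := (List.range 24).all fun i => V.getD (ap Q i) 0 == V.getD i 0

/-- a packed permutation of the Mathieu group fixing both vectors -/
def monOK (Q : ℕ) (V W : List ℤ) : Bool := inM24 Q && permFix Q V && permFix Q W

/-- differing tables -/
def diffT (c d : List ℕ) : Bool := (List.range 24).any fun j => comb c (2 ^ j) != comb d (2 ^ j)

/-- the cycles of a power of the element of order eleven -/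
def domPow (s : ℕ) : List (ℕ × ℕ) := dom22.map fun t => (t.1, (t.2 * s) % 11)

namespace PairCert

variable (D : PairCert)

/-- the table of the second generator -/
def tU : List ℕ := D.wU.map keyL

/-- the table of the exchanging automorphism -/
def tH : List ℕ := D.wH.map keyL

/-- the vectors and the three elements -/
def baseOK : Bool :=
  inL D.V && inL D.W && (List.range 23).all (fun i => D.V.getD i 0 == 1) &&
    decide (1 < (D.V.getD 23 0).natAbs) &&
    (List.range 23).all (fun i => i == 0 || D.W.getD i 0 != D.W.getD 0 0) &&
    stabOK D.V D.wU && (List.range 24).all (fun i => linAt (coordL D.W) D.wU i == D.W.getD i 0) &&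
    monOK elt22 D.V D.W && monOK y22 D.V D.W &&
    tabOf D.T 0 == tX && tabOf D.T 1 == D.tU && mulC tY tX == mulC (powC tX 5) tY &&
    mulC D.tU tY == mulC tY D.tU && powC D.tU 5 == pow2L && powC tY 5 == pow2L && powC tX 11 == pow2L

/-- fixed classes of both elements -/
def fixedOK : Bool :=
  D.fX.ok D.V D.W tX [keyL e8L] &&
    D.fY.ok D.V D.W tY ((List.range 5).map fun i => comb (powC D.tU i) (keyL e8L))

/-- the exponent with a given index -/
def kk (ki : ℕ) : ℕ := if ki = 0 then 1 else 10

/-- the image with a given index -/
def cTab (a b : ℕ) : List ℕ := mulC (powC tY a) (powC D.tU b)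

/-- the pair is admissible, or a word separates it -/
def sepAt (ki a b : ℕ) : Bool :=
  (kk ki == 1 && a == 0 && b == 1) || (kk ki == D.k0 && a == D.c0.1 && b == D.c0.2) ||
    (powC (wordTab tX D.tU (D.seps.getD (ki * 25 + a * 5 + b) ([], 0)).1)
        (D.seps.getD (ki * 25 + a * 5 + b) ([], 0)).2 == pow2L &&
      diffT (powC (wordTab (powC tX (kk ki)) (D.cTab a b) (D.seps.getD (ki * 25 + a * 5 + b) ([], 0)).1)
        (D.seps.getD (ki * 25 + a * 5 + b) ([], 0)).2) pow2L)

/-- all pairs -/
def sepsOK : Bool :=
  (List.range 2).all fun ki => (List.range 5).all fun a => (List.range 5).all fun b => D.sepAt ki a b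

/-- the exchanging automorphism induces an outer one; `ok` lists the permutations inducing its exponent -/
def outOK (s : ℕ) (ok : List ℕ) : Bool :=
  autOK D.wH && (List.range 24).all (fun i => linAt (coordL D.V) D.wH i == D.W.getD i 0) &&
    (List.range 24).all (fun i => linAt (coordL D.W) D.wH i == D.V.getD i 0) &&
    mulC D.tHi D.tH == pow2L && mulC D.tH (mulC tX D.tHi) == powC tX D.e &&
    ((List.range 11).any fun j => (D.e * j) % 11 == 1) &&
    conjOK F22 [] (powP elt22 D.e) elt22 [0, 1, 5, 23] (domPow s) ok &&
    ok.all (fun P => monOK P D.V D.W &&
      diffT (mulC (permTab P) D.tU) (mulC (mulC D.tH (mulC D.tU D.tHi)) (permTab P)))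

end PairCert

end CfsgLib.Leech.OutPair
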