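import Cfsg.Agent.Lib.Leech.OutPair.Rigid

/-!
Two classes of automorphisms from an accepted certificate.
-/

set_option autoImplicit false
set_option maxRecDepth 10000
set_option linter.style.haveILetI false

namespace CfsgLib.Leech.OutPair

open Cfsg CfsgLib.Golay CfsgLib.Leech CfsgLib.Leech.Mult CfsgLib.Golay.AutTwo CfsgLib.Leech.OutStab

attribute [local irreducible] dL bL key keyL coord packB linL bits stabOK autOK

set_option maxHeartbeats 1000000

variable {D : PairCert} (hV : inL D.V = true) (hW : inL D.W = true) (hb : D.baseOK = true)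

include hb in
theorem rels : gY hV hW hb * gX hV hW hb = gX hV hW hb ^ 5 * gY hV hW hb ∧
    gU hV hW hb * gY hV hW hb = gY hV hW hb * gU hV hW hb ∧
    gX hV hW hb ^ 11 = 1 ∧ gY hV hW hb ^ 5 = 1 ∧ orderOf (gX hV hW hb) = 11 := by
  obtain ⟨hX, hY, hU⟩ := reps hV hW hb
  obtain ⟨-, -, -, -, -, -, -, -, -, hYX, hUY, -, hY5, hX11⟩ := base_facts hb
  refine ⟨eq_of_rep hV hW hb (rep_mul hV hW hY hX) (hYX.symm ▸ rep_mul hV hW (rep_pow hV hW hX 5) hY),
    eq_of_rep hV hW hb (rep_mul hV hW hU hY) (hUY.symm ▸ rep_mul hV hW hY hU),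
    eq_of_rep hV hW hb (rep_pow hV hW hX 11) (hX11.symm ▸ rep_one hV),
    eq_of_rep hV hW hb (rep_pow hV hW hY 5) (hY5.symm ▸ rep_one hV), ?_⟩
  rw [← Subgroup.orderOf_coe, ← Subgroup.orderOf_coe]
  exact orderOf_seed11

theorem exp_reduce : ∀ r : Fin 11, r.val ≠ 0 → ∃ t : Fin 5,
    r.val * 5 ^ t.val % 11 = 1 ∨ r.val * 5 ^ t.val % 11 = 10 := by decide +kernel

/-- the finite case distinction, in an abstract group -/
theorem hfin_of_seps {G : Type*} [Group G] (X Y U : G) (k0 a0 b0 : ℕ) (hxo : orderOf X = 11)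
    (hYX : Y * X = X ^ 5 * Y) (hUY : U * Y = Y * U)
    (hcent : ∀ w : G, w * Y = Y * w → ∃ a b : ℕ, a < 5 ∧ b < 5 ∧ w = Y ^ a * U ^ b)
    (hsep : ∀ ki < 2, ∀ a < 5, ∀ b < 5,
      (PairCert.kk ki = 1 ∧ a = 0 ∧ b = 1) ∨ (PairCert.kk ki = k0 ∧ a = a0 ∧ b = b0) ∨
      ∃ (w : List ℕ) (n : ℕ), ((w.map fun i => X ^ i * U).prod) ^ n = 1 ∧
        ((w.map fun i => (X ^ PairCert.kk ki) ^ i * (Y ^ a * U ^ b)).prod) ^ n ≠ 1)
    (φ : MulAut G) (k : ℕ) (hk : ¬ 11 ∣ k) (hy : φ Y = Y) (hx : φ X = X ^ k) :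
    ∃ g : G, (MulAut.conj g * φ) U = U ∧ (MulAut.conj g * φ) X = X ∨
      (MulAut.conj g * φ) U = Y ^ a0 * U ^ b0 ∧ (MulAut.conj g * φ) X = X ^ k0 := by
  have hφU : φ U * Y = Y * φ U := by
    have := congrArg φ hUY
    rwa [map_mul, map_mul, hy] at this
  obtain ⟨a, b, ha, hb5, hab⟩ := hcent (φ U) hφU
  obtain ⟨t, ht⟩ := exp_reduce ⟨k % 11, Nat.mod_lt _ (by norm_num)⟩ fun h0 => hk (Nat.dvd_of_mod_eq_zero h0)
  have hYp : ∀ t : ℕ, SemiconjBy (Y ^ t) X (X ^ 5 ^ t) := by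
    intro t
    induction t with
    | zero => simp [SemiconjBy]
    | succ t ih =>
      rw [pow_succ' Y]
      have h1 : SemiconjBy Y X (X ^ 5) := hYX
      have h2 : SemiconjBy Y (X ^ 5 ^ t) (X ^ 5 ^ (t + 1)) := by
        rw [pow_succ', pow_mul]; exact h1.pow_right (5 ^ t)
      exact h2.mul_left ih
  set ψ := MulAut.conj (Y ^ t.val) * φ with hψ
  have e1 : ψ X = X ^ (k % 11 * 5 ^ t.val % 11) := by
    rw [hψ, MulAut.mul_apply, MulAut.conj_apply, hx, ((hYp t.val).pow_right k).eq, mul_inv_cancel_right,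
      ← pow_mul, ← pow_mod_orderOf, hxo]
    congr 1
    rw [mul_comm, Nat.mod_mul_mod]
  have hψU : ψ U = Y ^ a * U ^ b := by
    rw [hψ, MulAut.mul_apply, MulAut.conj_apply,
      ((show Commute (φ U) Y from hφU).pow_right t.val).eq.symm, mul_inv_cancel_right, hab]
  obtain ⟨ki, hki, hψx⟩ : ∃ ki < 2, ψ X = X ^ PairCert.kk ki := by
    dsimp only at ht
    rcases ht with ht | ht
    · exact ⟨0, by norm_num, by rw [e1, ht]; rfl⟩
    · exact ⟨1, by norm_num, by rw [e1, ht]; rfl⟩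
  refine ⟨Y ^ t.val, ?_⟩
  rw [← hψ]
  rcases hsep ki hki a ha b hb5 with ⟨h1, h2, h3⟩ | ⟨h1, h2, h3⟩ | ⟨w, n, hw1, hw2⟩
  · refine Or.inl ⟨?_, ?_⟩
    · rw [hψU, h2, h3, pow_zero, one_mul, pow_one]
    · rw [hψx, h1, pow_one]
  · refine Or.inr ⟨?_, ?_⟩
    · rw [hψU, h2, h3]
    · rw [hψx, h1]
  · refine absurd ?_ hw2
    have := congrArg ψ hw1
    rw [map_pow, map_one, map_list_prod, List.map_map] at this
    rw [← this]
    congr 2
    exact List.map_congr_left fun i _ => by simp [Function.comp, hψx, hψU]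

include hb in
theorem hfin (hf : D.fixedOK = true) (hs : D.sepsOK = true)
    (φ : MulAut ↥(pairG hV hW)) (k : ℕ) (hk : ¬ 11 ∣ k) (hy : φ (gY hV hW hb) = gY hV hW hb)
    (hx : φ (gX hV hW hb) = gX hV hW hb ^ k) : ∃ g : ↥(pairG hV hW),
      (MulAut.conj g * φ) (gU hV hW hb) = gU hV hW hb ∧
        (MulAut.conj g * φ) (gX hV hW hb) = gX hV hW hb ∨
      (MulAut.conj g * φ) (gU hV hW hb) = gY hV hW hb ^ D.c0.1 * gU hV hW hb ^ D.c0.2 ∧
        (MulAut.conj g * φ) (gX hV hW hb) = gX hV hW hb ^ D.k0 := by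
  obtain ⟨hX, hY, hU⟩ := reps hV hW hb
  obtain ⟨hYX, hUY, -, -, hxo⟩ := rels hV hW hb
  refine hfin_of_seps _ _ _ _ _ _ hxo hYX hUY (cent_Y hV hW hb hf) ?_ φ k hk hy hx
  intro ki hki a ha b hb5
  simp only [PairCert.sepsOK, List.all_eq_true, List.mem_range] at hs
  have hsep := hs ki hki a ha b hb5
  simp only [PairCert.sepAt, Bool.or_eq_true, Bool.and_eq_true, beq_iff_eq] at hsep
  rcases hsep with (⟨⟨h1, h2⟩, h3⟩ | ⟨⟨h1, h2⟩, h3⟩) | ⟨hw1, hw2⟩
  · exact Or.inl ⟨h1, h2, h3⟩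
  · exact Or.inr (Or.inl ⟨h1, h2, h3⟩)
  · refine Or.inr (Or.inr ⟨_, _, eq_of_rep hV hW hb (rep_pow hV hW (rep_word hV hW hX hU _) _)
      (hw1.symm ▸ rep_one hV), fun he => ?_⟩)
    have hc : Rep hV (gY hV hW hb ^ a * gU hV hW hb ^ b).1 (D.cTab a b) :=
      rep_mul hV hW (rep_pow hV hW hY a) (rep_pow hV hW hU b)
    have hbad := rep_pow hV hW (rep_word hV hW (rep_pow hV hW hX (PairCert.kk ki)) hc
      (D.seps.getD (ki * 25 + a * 5 + b) ([], 0)).1) (D.seps.getD (ki * 25 + a * 5 + b) ([], 0)).2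
    exact Rep.ne hV hbad (rep_one hV) (comb_diff hw2) (congrArg Subtype.val he)

include hb in
theorem closure_top [Finite ↥(stabL hV)] (hprog : OutStab.slpOK D.T D.prog = true)
    (hlev : levsOK D.T [] D.levs = true) {m : ℕ} (hcard : Nat.card ↥(pairG hV hW) = m)
    (hbound : m ≤ bound D.levs) : Subgroup.closure {gX hV hW hb, gU hV hW hb} = ⊤ := by
  obtain ⟨hX, -, hU⟩ := reps hV hW hb
  obtain ⟨-, -, -, -, -, -, -, h0, h1, -⟩ := base_facts hb
  have hmap : (Subgroup.closure {gX hV hW hb, gU hV hW hb}).map (pairG hV hW).subtype =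
      Subgroup.closure ({(gX hV hW hb).1, (gU hV hW hb).1} : Set ↥(stabL hV)) := by
    rw [MonoidHom.map_closure, Set.image_pair]
    rfl
  have hle : (Subgroup.closure {gX hV hW hb, gU hV hW hb}).map (pairG hV hW).subtype ≤ pairG hV hW :=
    Subgroup.map_subtype_le _
  refine Subgroup.eq_top_of_le_card _ ?_
  rw [hcard, Nat.card_congr ((Subgroup.closure {gX hV hW hb, gU hV hW hb}).equivMapOfInjective _
    (pairG hV hW).subtype_injective).toEquiv, hmap]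
  exact hbound.trans ((bound_le _ (OutStab.slp_mem _ hprog
    ⟨_, Subgroup.subset_closure (Or.inl rfl), h0.symm ▸ hX⟩
    ⟨_, Subgroup.subset_closure (Or.inr rfl), h1.symm ▸ hU⟩) D.levs [] hlev).trans
      (Nat.card_le_card_of_injective _ (Subgroup.inclusion_injective inf_le_left)))

variable {s : ℕ} {ok : List ℕ} (ho : D.outOK s ok = true)

include ho in
theorem out_facts : autOK D.wH = true ∧ (∀ i < 24, linAt (coordL D.V) D.wH i = D.W.getD i 0) ∧
    (∀ i < 24, linAt (coordL D.W) D.wH i = D.V.getD i 0) ∧ mulC D.tHi D.tH = pow2L ∧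
    mulC D.tH (mulC tX D.tHi) = powC tX D.e ∧ (∃ j, D.e * j % 11 = 1) ∧
    conjOK F22 [] (powP elt22 D.e) elt22 [0, 1, 5, 23] (domPow s) ok = true ∧
    ∀ P ∈ ok, monOK P D.V D.W = true ∧
      diffT (mulC (permTab P) D.tU) (mulC (mulC D.tH (mulC D.tU D.tHi)) (permTab P)) = true := by
  simp only [PairCert.outOK, Bool.and_eq_true, List.all_eq_true, List.mem_range, beq_iff_eq,
    List.any_eq_true] at ho
  obtain ⟨⟨⟨⟨⟨⟨⟨h1, h2⟩, h3⟩, h4⟩, h5⟩, ⟨j, -, h6⟩⟩, h7⟩, h8⟩ := ho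
  exact ⟨h1, h2, h3, h4, h5, ⟨j, h6⟩, h7, h8⟩

/-- the exchanging automorphism -/
noncomputable def gH : ↥Co0 := (linIso (out_facts ho).1).aut

include ho in
theorem gH_swap : gH ho • (⟨vec D.V, vec_mem hV⟩ : ↥leechLattice) = ⟨vec D.W, vec_mem hW⟩ ∧
    gH ho • (⟨vec D.W, vec_mem hW⟩ : ↥leechLattice) = ⟨vec D.V, vec_mem hV⟩ :=
  ⟨lin_smul _ hV hW (out_facts ho).2.1, lin_smul _ hW hV (out_facts ho).2.2.1⟩

theorem conj_fix {h g : ↥Co0} {v w : ↥leechLattice} (hv : h • v = w) (hw : h • w = v)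
    (g1 : g • v = v) (g2 : g • w = w) :
    (h * g * h⁻¹) • v = v ∧ (h * g * h⁻¹) • w = w ∧ (h⁻¹ * g * h) • v = v ∧ (h⁻¹ * g * h) • w = w := by
  have i1 : h⁻¹ • v = w := inv_smul_eq_iff.2 hw.symm
  have i2 : h⁻¹ • w = v := inv_smul_eq_iff.2 hv.symm
  simp only [mul_smul, i1, i2, hv, hw, g1, g2, and_self]

/-- the automorphism induced by the exchange -/
noncomputable def outer : MulAut ↥(pairG hV hW) where
  toFun g := ⟨⟨gH ho * (g.1 : ↥Co0) * (gH ho)⁻¹, MulAction.mem_stabilizer_iff.2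
      (conj_fix (gH_swap hV hW ho).1 (gH_swap hV hW ho).2 (MulAction.mem_stabilizer_iff.1 g.1.2)
        (smul_W hV hW g.2)).1⟩,
    MulAction.mem_stabilizer_iff.2 (conj_fix (gH_swap hV hW ho).1 (gH_swap hV hW ho).2
      (MulAction.mem_stabilizer_iff.1 g.1.2) (smul_W hV hW g.2)).2.1⟩
  invFun g := ⟨⟨(gH ho)⁻¹ * (g.1 : ↥Co0) * gH ho, MulAction.mem_stabilizer_iff.2
      (conj_fix (gH_swap hV hW ho).1 (gH_swap hV hW ho).2 (MulAction.mem_stabilizer_iff.1 g.1.2)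
        (smul_W hV hW g.2)).2.2.1⟩,
    MulAction.mem_stabilizer_iff.2 (conj_fix (gH_swap hV hW ho).1 (gH_swap hV hW ho).2
      (MulAction.mem_stabilizer_iff.1 g.1.2) (smul_W hV hW g.2)).2.2.2⟩
  left_inv g := Subtype.ext (Subtype.ext (by simp [mul_assoc]))
  right_inv g := Subtype.ext (Subtype.ext (by simp [mul_assoc]))
  map_mul' g h := Subtype.ext (Subtype.ext (by simp [mul_assoc]))

include ho in
theorem rep_outer {g : ↥(pairG hV hW)} {c : List ℕ} (hg : Rep hV g.1 c) :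
    Rep hV (outer hV hW ho g).1 (mulC D.tH (mulC c D.tHi)) := by
  obtain ⟨hA, -, -, hinv, -⟩ := out_facts ho
  intro k hk
  have hj : act (gH ho)⁻¹ k < 2 ^ 24 := act_lt _ _
  have hk' : comb D.tHi k = act (gH ho)⁻¹ k := by
    conv_rhs => rw [← comb_pow2 hj, ← hinv, mulC, comb_comb]
    congr 1
    show k = comb (D.wH.map keyL) _
    rw [← act_lin hA hj, show (linIso hA).aut = gH ho from rfl, ← act_mul, mul_inv_cancel, act_one hk]
  show act (gH ho * (g.1 : ↥Co0) * (gH ho)⁻¹) k = _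
  rw [act_mul, act_mul, hg _ hj, ← hk', show gH ho = (linIso hA).aut from rfl,
    act_lin hA (hk' ▸ hg _ hj ▸ act_lt _ _)]
  simp only [mulC, comb_comb]
  rfl

include hb ho in
theorem outer_not_inner (hf : D.fixedOK = true) : outer hV hW ho ∉ Cfsg.Inn ↥(pairG hV hW) := by
  rintro ⟨g, hg⟩
  obtain ⟨hX, -, hU⟩ := reps hV hW hb
  obtain ⟨-, -, -, -, heX, ⟨j, hj⟩, hconj, hall⟩ := out_facts ho
  have hgX : g * gX hV hW hb * g⁻¹ = gX hV hW hb ^ D.e := by
    have h1 : MulAut.conj g (gX hV hW hb) = outer hV hW ho (gX hV hW hb) :=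
      congrArg (fun ψ => ψ (gX hV hW hb)) hg
    rw [MulAut.conj_apply] at h1
    rw [h1]
    exact eq_of_rep hV hW hb (heX ▸ rep_outer hV hW ho hX) (rep_pow hV hW hX D.e)
  obtain ⟨τ, hτ, hτF, hgτ, hrel⟩ := mono_of_normal hV hW hb hf g hj (mul_inv_eq_iff_eq_mul.1 hgX)
  obtain ⟨P, hP, hτP⟩ := eq_of_conjOK (H := M24) le_rfl (by simp) hconj hτF
    (by rw [(toPerm_powP elt22_ok.2.2 D.e).2]; exact hrel)
  obtain ⟨hmon, hd⟩ := hall P hP
  have hgP : Rep hV g.1 (permTab P) := by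
    refine rep_perm hV (monOK_iff hmon).1 hτP.symm hτ _ hgτ
  have hgU : g * gU hV hW hb = outer hV hW ho (gU hV hW hb) * g := by
    have h1 : MulAut.conj g (gU hV hW hb) = outer hV hW ho (gU hV hW hb) :=
      congrArg (fun ψ => ψ (gU hV hW hb)) hg
    rw [MulAut.conj_apply] at h1
    exact mul_inv_eq_iff_eq_mul.1 h1
  refine Rep.ne hV (rep_mul hV hW hgP hU) (rep_mul hV hW (rep_outer hV hW ho hU) hgP) (comb_diff hd) ?_
  rw [hgU]

include hb ho in
/-- The outer automorphism group has order two. -/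
theorem card_out_eq_two (hf : D.fixedOK = true) (hs : D.sepsOK = true)
    (hprog : OutStab.slpOK D.T D.prog = true) (hlev : levsOK D.T [] D.levs = true) {n : ℕ}
    (hcard : Nat.card ↥(pairG hV hW) = 11 * n) (hn : ¬ 11 ∣ n) (hbound : 11 * n ≤ bound D.levs) :
    Nat.card (Cfsg.Out ↥(pairG hV hW)) = 2 := by
  haveI : Finite ↥Co0 := finite_Co0
  haveI : Fact (Nat.Prime 11) := ⟨by norm_num⟩
  obtain ⟨hYX, -, -, -, hxo⟩ := rels hV hW hb
  exact out_eq_two_of_pairs (gX hV hW hb) (gY hV hW hb) (gU hV hW hb)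
    (gY hV hW hb ^ D.c0.1 * gU hV hW hb ^ D.c0.2) hcard hn hxo (cent_X hV hW hb hf) 5 hYX
    (by norm_num) (by norm_num) (closure_top hV hW hb hprog hlev hcard hbound) D.k0
    (fun φ k hk hy hx => hfin hV hW hb hf hs φ k hk hy hx) (outer hV hW ho) (outer_not_inner hV hW hb ho hf)

end CfsgLib.Leech.OutPair
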