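import Cfsg.Agent.Lib.Leech.OutPair.Data
import Cfsg.Agent.Lib.Leech.OutStab.GenFast

/-!
The checks of the two certificates.
-/

set_option autoImplicit false
set_option Elab.async false
set_option maxRecDepth 100000
set_option maxHeartbeats 4000000

namespace CfsgLib.Leech.OutPair

open CfsgLib.Golay CfsgLib.Leech CfsgLib.Leech.OutStab

theorem mcl_base : mclCert.baseOK = true := by decide +kernel

theorem mcl_fixed : mclCert.fixedOK = true := by decide +kernel

theorem mcl_seps : mclCert.sepsOK = true := by decide +kernel

theorem mcl_out : mclCert.outOK 1 ((List.range 11).map (powP elt22)) = true := by decide +kernel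

theorem mcl_prog : OutStab.slpOK mclT mclProg = true := by decide +kernel

theorem mcl_lev0 : levFast mclT [] mclLev0 mclPack0 = true := by decide +kernel

theorem mcl_levs_rest : levsOK mclT [mclLev0.b] [mclLev1, mclLev2, mclLev3] = true := by decide +kernel

theorem mcl_levs : levsOK mclCert.T [] mclCert.levs = true := by
  show (OutStab.levOK mclT [] mclLev0 && levsOK mclT [mclLev0.b] [mclLev1, mclLev2, mclLev3]) = true
  rw [levOK_of_fast mcl_lev0, mcl_levs_rest]
  rfl

theorem mcl_bound : bound mclCert.levs = 898128000 := by decide +kernel

end CfsgLib.Leech.OutPair
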