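import Cfsg.Agent.Lib.Leech.OutPair.Cert
import Cfsg.Agent.Lib.Leech.OutPair.Core

/-!
The stabilizer of two vectors has two classes of automorphisms when its certificate is accepted.
-/

set_option autoImplicit false
set_option maxRecDepth 10000
set_option linter.style.haveILetI false

namespace CfsgLib.Leech.OutPair

open Cfsg CfsgLib.Golay CfsgLib.Leech CfsgLib.Leech.Mult CfsgLib.Golay.AutTwo CfsgLib.Leech.OutStab

attribute [local irreducible] dL bL key keyL coord packB linL bits stabOK autOK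

variable {D : PairCert}

theorem comb_diff {c d : List ℕ} (h : diffT c d = true) : ∃ j < 24, comb c (2 ^ j) ≠ comb d (2 ^ j) := by
  simp only [diffT, List.any_eq_true, List.mem_range, bne_iff_ne] at h
  exact h

theorem lin_smul {W : List (List ℤ)} (hW : autOK W = true) {a b : List ℤ} (ha : inL a = true) (hb : inL b = true)
    (h : ∀ i < 24, linAt (coordL a) W i = b.getD i 0) :
    (linIso hW).aut • (⟨vec a, vec_mem ha⟩ : ↥leechLattice) = ⟨vec b, vec_mem hb⟩ := by
  refine Subtype.ext ?_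
  rw [Iso.aut_smul]
  show linF W (vec a) = vec b
  funext p
  rw [linF, linL_vec, ofFn_coord_vec (inL_length ha), h _ (idx_lt p)]
  rfl

theorem perm_smul {Q : ℕ} {a : List ℤ} (ha : inL a = true) (hQ : inM24 Q = true) (hf : permFix Q a = true) :
    mono (toPerm_mem_M24 hQ) empty_mem_CS • (⟨vec a, vec_mem ha⟩ : ↥leechLattice) = ⟨vec a, vec_mem ha⟩ := by
  simp only [permFix, List.all_eq_true, List.mem_range, beq_iff_eq] at hf
  have hv : validP Q = true := by simp only [inM24, Bool.and_eq_true] at hQ; exact hQ.1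
  refine Subtype.ext (funext fun p => ?_)
  rw [mono_apply, if_neg (Finset.notMem_empty _)]
  show a.getD (idx (toPerm Q p)) 0 = a.getD (idx p) 0
  rw [idx_toPerm hv]
  exact hf _ (idx_lt p)

section

variable (hV : inL D.V = true) (hW : inL D.W = true)

/-- the stabilizer of both vectors -/
noncomputable abbrev pairG : Subgroup ↥(stabL hV) :=
  MulAction.stabilizer ↥(stabL hV) (⟨vec D.W, vec_mem hW⟩ : ↥leechLattice)

theorem smul_W {g : ↥(stabL hV)} (h : g ∈ pairG hV hW) :
    (g : ↥Co0) • (⟨vec D.W, vec_mem hW⟩ : ↥leechLattice) = ⟨vec D.W, vec_mem hW⟩ :=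
  MulAction.mem_stabilizer_iff.1 h

theorem monOK_iff {Q : ℕ} (hQ : monOK Q D.V D.W = true) :
    inM24 Q = true ∧ permFix Q D.V = true ∧ permFix Q D.W = true := by
  simp only [monOK, Bool.and_eq_true] at hQ
  exact ⟨hQ.1.1, hQ.1.2, hQ.2⟩

/-- a permutation fixing both vectors, as an element -/
noncomputable def gMon {Q : ℕ} (hQ : monOK Q D.V D.W = true) : ↥(pairG hV hW) :=
  ⟨⟨mono (toPerm_mem_M24 (monOK_iff hQ).1) empty_mem_CS,
    MulAction.mem_stabilizer_iff.2 (perm_smul hV (monOK_iff hQ).1 (monOK_iff hQ).2.1)⟩,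
    MulAction.mem_stabilizer_iff.2 (perm_smul hW (monOK_iff hQ).1 (monOK_iff hQ).2.2)⟩

theorem rep_gMon {Q : ℕ} (hQ : monOK Q D.V D.W = true) : Rep hV (gMon hV hW hQ).1 (permTab Q) :=
  rep_perm hV (monOK_iff hQ).1 rfl (toPerm_mem_M24 (monOK_iff hQ).1) _ rfl

variable (hb : D.baseOK = true)

include hb in
theorem base_facts :
    (∀ i < 23, D.V.getD i 0 = 1) ∧ 1 < (D.V.getD 23 0).natAbs ∧
    (∀ i < 23, i = 0 ∨ D.W.getD i 0 ≠ D.W.getD 0 0) ∧ stabOK D.V D.wU = true ∧
    (∀ i < 24, linAt (coordL D.W) D.wU i = D.W.getD i 0) ∧ monOK elt22 D.V D.W = true ∧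
    monOK y22 D.V D.W = true ∧ tabOf D.T 0 = tX ∧ tabOf D.T 1 = D.tU ∧
    mulC tY tX = mulC (powC tX 5) tY ∧ mulC D.tU tY = mulC tY D.tU ∧ powC D.tU 5 = pow2L ∧
    powC tY 5 = pow2L ∧ powC tX 11 = pow2L := by
  simp only [PairCert.baseOK, Bool.and_eq_true, List.all_eq_true, List.mem_range, beq_iff_eq,
    decide_eq_true_eq, Bool.or_eq_true, bne_iff_ne] at hb
  obtain ⟨⟨⟨⟨⟨⟨⟨⟨⟨⟨⟨⟨⟨⟨⟨-, -⟩, h1⟩, h2⟩, h3⟩, h4⟩, h5⟩, h6⟩, h7⟩, h8⟩, h9⟩, h10⟩, h11⟩, h12⟩, h13⟩, h14⟩ := hb
  exact ⟨h1, h2, h3, h4, h5, h6, h7, h8, h9, h10, h11, h12, h13, h14⟩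

/-- the element of order eleven -/
noncomputable def gX : ↥(pairG hV hW) := gMon hV hW (base_facts hb).2.2.2.2.2.1

/-- the element of order five -/
noncomputable def gY : ↥(pairG hV hW) := gMon hV hW (base_facts hb).2.2.2.2.2.2.1

/-- the second generator -/
noncomputable def gU : ↥(pairG hV hW) := by
  refine ⟨stabElt hV D.wU, MulAction.mem_stabilizer_iff.2 ?_⟩
  have h := base_facts hb
  have hA : autOK D.wU = true := by
    have := h.2.2.2.1
    unfold stabOK at this
    simp only [Bool.and_eq_true] at this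
    exact this.1
  have he : (stabElt hV D.wU : ↥Co0) = (linIso hA).aut := by
    have hs := lin_smul hA hV hV (by
      have := h.2.2.2.1
      unfold stabOK at this
      simp only [Bool.and_eq_true, List.all_eq_true, List.mem_range, beq_iff_eq] at this
      exact this.2)
    have e := Rep.eq hV ?_ (rep_stabElt hV h.2.2.2.1)
      (show Rep hV ⟨(linIso hA).aut, MulAction.mem_stabilizer_iff.2 hs⟩ (D.wU.map keyL) from
        fun k hk => act_lin hA hk)
    · exact congrArg Subtype.val e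
    · intro h0
      have h1 := h.1 0 (by norm_num)
      have h2 : vec D.V (pt 0) = D.V.getD 0 0 := by show D.V.getD (idx (pt 0)) 0 = _; rw [idx_pt 0 (by norm_num)]
      rw [h0, h1] at h2
      simp at h2
  show (stabElt hV D.wU : ↥Co0) • (⟨vec D.W, vec_mem hW⟩ : ↥leechLattice) = ⟨vec D.W, vec_mem hW⟩
  rw [he]
  exact lin_smul hA hW hW h.2.2.2.2.1

include hb in
theorem ne_zero : vec D.V ≠ 0 := by
  intro h0
  have h1 := (base_facts hb).1 0 (by norm_num)
  have h2 : vec D.V (pt 0) = D.V.getD 0 0 := by show D.V.getD (idx (pt 0)) 0 = _; rw [idx_pt 0 (by norm_num)]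
  rw [h0, h1] at h2
  simp at h2

include hb in
theorem vec_facts :
    (∀ x : ZMod 23, (⟨vec D.V, vec_mem hV⟩ : ↥leechLattice).1 (some x) = 1) ∧
      (⟨vec D.V, vec_mem hV⟩ : ↥leechLattice).1 none ∉ ({-1, 0, 1} : Finset ℤ) := by
  obtain ⟨h1, h2, -⟩ := base_facts hb
  refine ⟨fun x => h1 _ (by revert x; decide), ?_⟩
  show D.V.getD (idx none) 0 ∉ _
  rw [show idx none = 23 from rfl]
  simp only [Finset.mem_insert, Finset.mem_singleton]
  omega

include hb in
theorem reps : Rep hV (gX hV hW hb).1 tX ∧ Rep hV (gY hV hW hb).1 tY ∧ Rep hV (gU hV hW hb).1 D.tU :=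
  ⟨rep_gMon hV hW _, rep_gMon hV hW _, rep_stabElt hV (base_facts hb).2.2.2.1⟩

include hb in
theorem eq_of_rep {g h : ↥(pairG hV hW)} {c : List ℕ} (hg : Rep hV g.1 c) (hh : Rep hV h.1 c) : g = h :=
  Subtype.ext (Rep.eq hV (ne_zero hb) hg hh)

theorem rep_mul {g h : ↥(pairG hV hW)} {c d : List ℕ} (hg : Rep hV g.1 c) (hh : Rep hV h.1 d) :
    Rep hV (g * h).1 (mulC c d) := hg.mul hV hh

theorem rep_pow {g : ↥(pairG hV hW)} {c : List ℕ} (hg : Rep hV g.1 c) (n : ℕ) :
    Rep hV (g ^ n).1 (powC c n) := by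
  rw [SubmonoidClass.coe_pow]; exact Rep.pow hV hg n

theorem rep_word {x c : ↥(pairG hV hW)} {tx tc : List ℕ} (hx : Rep hV x.1 tx) (hc : Rep hV c.1 tc)
    (w : List ℕ) : Rep hV ((w.map fun a => x ^ a * c).prod).1 (wordTab tx tc w) := by
  rw [show ((w.map fun a => x ^ a * c).prod).1 = (w.map fun a => x.1 ^ a * c.1).prod by
    rw [Subgroup.val_list_prod, List.map_map]; rfl]
  exact Rep.word hV hx hc w

include hb in
/-- an element of the group fixing the cross is a permutation fixing two points -/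
theorem mono_of_cross (g : ↥(pairG hV hW)) (h : act (g.1 : ↥Co0) (mainK 3) = mainK 3) :
    ∃ (τ : Equiv.Perm GolayPt) (hτ : τ ∈ M24), τ ∈ fixH M24 F22 ∧ (g.1 : ↥Co0) = mono hτ empty_mem_CS := by
  obtain ⟨h1, h0⟩ := vec_facts hV hb
  obtain ⟨τ, d, hτ, hd, hgd⟩ := crossStab_eq_mono (mem_crossStab.2 h)
  obtain ⟨hn, rfl⟩ := mono_stab h1 h0 hτ hd (hgd ▸ g.1.2)
  refine ⟨τ, hτ, mem_fix22_iff.2 ⟨hτ, ?_, ?_⟩, hgd⟩
  · rw [show pt 23 = (none : GolayPt) by decide +kernel]; exact hn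
  · have hp : pt 0 = (some 0 : GolayPt) := by decide +kernel
    rw [hp]
    have hfix := congrFun (congrArg Subtype.val (smul_W hV hW g.2)) (some 0)
    rw [hgd, mono_apply, if_neg (Finset.notMem_empty _)] at hfix
    have hi : D.W.getD (idx (τ (some 0))) 0 = D.W.getD 0 0 := hfix
    have hlt : idx (τ (some 0)) < 23 := by
      cases hc : τ (some 0) with
      | none => exact absurd (τ.injective (hc.trans hn.symm)) (Option.some_ne_none _)
      | some c => exact (show ∀ c : ZMod 23, idx (some c) < 23 by decide +kernel) c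
    rcases (base_facts hb).2.2.1 _ hlt with h' | h'
    · exact idx_injective h'
    · exact absurd hi h'

omit hb in
/-- a fixed class in the orbit of the cross -/
theorem fixed_cases {f : FixData} {t : List ℕ} {imgs : List ℕ} (hf : f.ok D.V D.W t imgs = true)
    {k : ℕ} (g : ↥(pairG hV hW)) (hk : act (g.1 : ↥Co0) (mainK 3) = k) (hfix : comb t k = k) : k ∈ imgs := by
  simp only [FixData.ok, Bool.and_eq_true, beq_iff_eq, List.contains_iff_mem, List.all_eq_true,
    Bool.or_eq_true, List.any_eq_true] at hf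
  obtain ⟨⟨⟨⟨h1, h2⟩, h3⟩, hlen⟩, h5⟩ := hf
  have hk24 : k < 2 ^ 24 := hk ▸ act_lt _ _
  have hP : comb f.P k = k := by
    have := congrArg (fun c => comb c k) h1
    simp only [mulC, comb_comb, hfix, comb_xorL, comb_pow2 hk24] at this
    have h6 : comb f.A k ^^^ comb f.A k = comb f.A k ^^^ (comb f.A k ^^^ k ^^^ comb f.P k) := by rw [← this]
    rw [Nat.xor_self, Nat.xor_assoc, ← Nat.xor_assoc, Nat.xor_self, Nat.zero_xor] at h6
    exact (Nat.xor_eq_zero_iff.1 h6.symm).symm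
  have hclosed : ∀ (l : List ℕ), (∀ p ∈ l, p ∈ f.P) → ∀ m, comb l m ∈ f.F := by
    intro l
    induction l with
    | nil => intro _ m; exact h2
    | cons p l ih =>
      intro hl m
      simp only [comb]
      have hr := ih (fun q hq => hl q (List.mem_cons_of_mem _ hq)) (m / 2)
      by_cases hm : m % 2 = 1
      · rcases h3 p (hl p List.mem_cons_self) with h | h
        · simpa [hm, h] using hr
        · simpa [hm] using h _ hr
      · simpa [hm] using hr
  have hkF : k ∈ f.F := hP ▸ hclosed f.P (fun p hp => hp) k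
  obtain ⟨i, hi, hik⟩ := List.mem_iff_getElem.1 hkF
  have hl5 := h5 (f.F[i], f.wits[i]'(hlen.symm ▸ hi))
    (List.mem_iff_getElem.2 ⟨i, by simp [List.length_zip, hlen, hi], by simp⟩)
  rw [hik] at hl5
  generalize f.wits[i]'(hlen.symm ▸ hi) = l at hl5
  rcases hl5 with h | hl
  · exact h
  · exfalso
    simp only [witPair, Bool.and_eq_true, Bool.or_eq_true, decide_eq_true_eq, beq_iff_eq, List.all_eq_true,
      List.mem_range, bne_iff_ne] at hl
    obtain ⟨⟨hl1, hl2⟩, hl3⟩ := hl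
    set w : ↥Co0 := (g.1 : ↥Co0) with hw
    set v : ↥leechLattice := ⟨vec l, vec_mem hl1⟩ with hv
    have hvk : key (v : GolayPt → ℤ) = k := (keyL_eq (inL_length hl1)).trans hl2
    have hu : key ((w • eightL none : ↥leechLattice) : GolayPt → ℤ) = k := by
      rw [← hk, mainK_three none]
      exact (act_key w (eightL none)).symm
    have hun : sqNorm ((w • eightL none : ↥leechLattice) : GolayPt → ℤ) = 64 :=
      (sqNorm_smul _ _).trans (sqNorm_eight none)
    have hvn : sqNorm (v : GolayPt → ℤ) = dotL l l := sqNorm_vec (inL_length hl1)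
    rcases hl3 with hlt | ⟨he64, hdots⟩
    · have := sqNorm_eq_of_key (Subtype.prop v) (Subtype.prop _) (by rw [hvn]; omega) hun.le (hvk.trans hu.symm)
      rw [hun, hvn] at this
      omega
    · have hkey : key ((w⁻¹ • v : ↥leechLattice) : GolayPt → ℤ) = mainK 3 := by
        rw [← act_key, hvk, ← hk, act_inv_act _ (mainK_lt 3)]
      obtain ⟨p, hp⟩ := cross_class (Subtype.prop _) ((sqNorm_smul _ v).trans (hvn.trans he64)) hkey
      have hdot : ∀ (a : List ℤ) (ha : inL a = true),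
          w • (⟨vec a, vec_mem ha⟩ : ↥leechLattice) = ⟨vec a, vec_mem ha⟩ →
          (dotL l a).natAbs = 8 * (a.getD (idx p) 0).natAbs := by
        intro a ha hga
        have hd := dotInt_smul w⁻¹ v (⟨vec a, vec_mem ha⟩ : ↥leechLattice)
        rw [inv_smul_eq_iff.2 hga.symm, show ((v : ↥leechLattice) : GolayPt → ℤ) = vec l from rfl,
          dotInt_vec (inL_length hl1) (inL_length ha)] at hd
        rw [← hd]
        rcases hp with hp | hp <;> rw [hp, dotInt_comm]
        · rw [dotInt_eight, Int.natAbs_mul]; rfl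
        · rw [dotInt_neg_eight, Int.natAbs_neg, Int.natAbs_mul]; rfl
      rcases hdots (idx p) (idx_lt p) with h | h
      · exact h (hdot _ hV (MulAction.mem_stabilizer_iff.1 g.1.2))
      · exact h (hdot _ hW (smul_W hV hW g.2))

include hb in
theorem gens_fix_cross : act ((gX hV hW hb).1 : ↥Co0) (mainK 3) = mainK 3 ∧
    act ((gY hV hW hb).1 : ↥Co0) (mainK 3) = mainK 3 :=
  ⟨mem_crossStab.1 (mono_mem_crossStab _ empty_mem_CS), mem_crossStab.1 (mono_mem_crossStab _ empty_mem_CS)⟩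

variable (hf : D.fixedOK = true)

include hb hf in
/-- normalizing elements are permutations -/
theorem mono_of_normal (g : ↥(pairG hV hW)) {e j : ℕ} (hej : e * j % 11 = 1)
    (hg : g * gX hV hW hb = gX hV hW hb ^ e * g) :
    ∃ (τ : Equiv.Perm GolayPt) (hτ : τ ∈ M24), τ ∈ fixH M24 F22 ∧ (g.1 : ↥Co0) = mono hτ empty_mem_CS ∧
      τ * dblσ ^ e = dblσ * τ := by
  have hX11 : gX hV hW hb ^ 11 = 1 := eq_of_rep hV hW hb (rep_pow hV hW (reps hV hW hb).1 11)
    ((base_facts hb).2.2.2.2.2.2.2.2.2.2.2.2.2.symm ▸ rep_one hV)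
  set k := act (g.1 : ↥Co0) (mainK 3) with hk
  have he : act ((gX hV hW hb ^ e).1 : ↥Co0) k = k := by
    rw [hk, ← act_mul]
    show act ((gX hV hW hb ^ e * g).1 : ↥Co0) _ = _
    rw [← hg]
    show act ((g.1 : ↥Co0) * ((gX hV hW hb).1 : ↥Co0)) _ = _
    rw [act_mul, (gens_fix_cross hV hW hb).1]
  have hpow : ∀ i : ℕ, act (((gX hV hW hb ^ e) ^ i).1 : ↥Co0) k = k := by
    intro i
    induction i with
    | zero => rw [pow_zero]; exact act_one (act_lt _ _)
    | succ i ih =>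
      rw [pow_succ]
      show act ((((gX hV hW hb ^ e) ^ i).1 : ↥Co0) * ((gX hV hW hb ^ e).1 : ↥Co0)) _ = _
      rw [act_mul, he, ih]
  have hfix : comb tX k = k := by
    have h := hpow j
    rw [← pow_mul] at h
    obtain ⟨q, hq⟩ : ∃ q, e * j = 11 * q + 1 := ⟨e * j / 11, by omega⟩
    rw [hq, pow_succ, pow_mul, hX11, one_pow, one_mul] at h
    rwa [(reps hV hW hb).1 k (act_lt _ _)] at h
  simp only [PairCert.fixedOK, Bool.and_eq_true] at hf
  have hmem := fixed_cases hV hW hf.1 g hk.symm hfix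
  rw [List.mem_singleton, ← key_e8L] at hmem
  obtain ⟨τ, hτ, hτF, hgτ⟩ := mono_of_cross hV hW hb g hmem
  refine ⟨τ, hτ, hτF, hgτ, ?_⟩
  have h2 : (g.1 : ↥Co0) * ((gX hV hW hb).1 : ↥Co0) = ((gX hV hW hb).1 : ↥Co0) ^ e * (g.1 : ↥Co0) := by
    have := congrArg (fun z : ↥(pairG hV hW) => (z.1 : ↥Co0)) hg
    simpa using this
  have hp : ∀ n : ℕ, seed11 ^ n = mono (pow_mem dblσ_mem_M24 n) empty_mem_CS := by
    intro n
    induction n with
    | zero => rw [pow_zero, one_eq_mono]; congr 1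
    | succ n ih => rw [pow_succ', ih, seed11, mono_mul_nil]; congr 1; exact (pow_succ _ _).symm
  rw [hgτ, show ((gX hV hW hb).1 : ↥Co0) = seed11 from rfl, hp, seed11, mono_mul_nil, mono_mul_nil] at h2
  exact (perm_unique h2).symm

include hb hf in
theorem cent_X (w : ↥(pairG hV hW)) (hw : w * gX hV hW hb = gX hV hW hb * w) :
    w ∈ Subgroup.zpowers (gX hV hW hb) := by
  obtain ⟨τ, hτ, -, hwτ, hcomm⟩ := mono_of_normal hV hW hb hf w (e := 1) (j := 1) (by norm_num)
    (by rw [pow_one]; exact hw)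
  rw [pow_one] at hcomm
  obtain ⟨i, hi⟩ := (isOfFinOrder_of_finite (toPerm elt22)).mem_powers_iff_mem_zpowers.2
    (cent_of_conjOK cent22 hτ hcomm)
  refine Subgroup.mem_zpowers_iff.2 ⟨i, Subtype.ext (Subtype.ext ?_)⟩
  rw [zpow_natCast, SubgroupClass.coe_pow, SubgroupClass.coe_pow, hwτ]
  show seed11 ^ i = _
  have hp : ∀ n : ℕ, seed11 ^ n = mono (pow_mem dblσ_mem_M24 n) empty_mem_CS := by
    intro n
    induction n with
    | zero => rw [pow_zero, one_eq_mono]; congr 1
    | succ n ih => rw [pow_succ', ih, seed11, mono_mul_nil]; congr 1; exact (pow_succ _ _).symm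
  rw [hp]
  congr 1

theorem oct_y22 : octChk y22 y22 oct22 1 8421387 5 [1, 12, 21, 22] = true := by decide +kernel

theorem cand_y22 : candOK F22 [] y22 y22 [0, 3, 15, 23, 1, 12, 21, 22]
    (candOct F22 [] y22 y22 oct22 1 [1, 12, 21, 22]) dom22y [powP y22 0] = true := by decide +kernel

include hb hf in
theorem cent_Y (w : ↥(pairG hV hW)) (hw : w * gY hV hW hb = gY hV hW hb * w) :
    ∃ a b : ℕ, a < 5 ∧ b < 5 ∧ w = gY hV hW hb ^ a * gU hV hW hb ^ b := by
  obtain ⟨hX, hY, hU⟩ := reps hV hW hb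
  obtain ⟨-, -, -, -, -, -, -, -, -, -, hUY, hU5, hY5, -⟩ := base_facts hb
  have hcomm : Commute (gU hV hW hb) (gY hV hW hb) :=
    eq_of_rep hV hW hb (rep_mul hV hW hU hY) (hUY.symm ▸ rep_mul hV hW hY hU)
  have hY' : gY hV hW hb ^ 5 = 1 := eq_of_rep hV hW hb (rep_pow hV hW hY 5) (hY5.symm ▸ rep_one hV)
  set k := act (w.1 : ↥Co0) (mainK 3) with hk
  have hfix : comb tY k = k := by
    rw [← hY k (act_lt _ _), hk, ← act_mul]
    show act ((gY hV hW hb * w).1 : ↥Co0) _ = _
    rw [← hw]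
    show act ((w.1 : ↥Co0) * ((gY hV hW hb).1 : ↥Co0)) _ = _
    rw [act_mul, (gens_fix_cross hV hW hb).2]
  simp only [PairCert.fixedOK, Bool.and_eq_true] at hf
  obtain ⟨b, hb5, hbk⟩ := List.mem_map.1 (fixed_cases hV hW hf.2 w hk.symm hfix)
  rw [List.mem_range] at hb5
  set w' := (gU hV hW hb ^ b)⁻¹ * w with hw'
  have hcr : act (w'.1 : ↥Co0) (mainK 3) = mainK 3 := by
    show act ((((gU hV hW hb ^ b)⁻¹).1 : ↥Co0) * (w.1 : ↥Co0)) _ = _
    rw [act_mul, ← hk, ← hbk, ← rep_pow hV hW hU b _ (by rw [← key_e8L]; exact mainK_lt 3), ← key_e8L]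
    exact act_inv_act _ (mainK_lt 3)
  obtain ⟨τ, hτ, hτF, hwτ⟩ := mono_of_cross hV hW hb w' hcr
  have hcm : Commute w' (gY hV hW hb) :=
    ((hcomm.pow_left b).inv_left).mul_left (show Commute w (gY hV hW hb) from hw)
  have hperm : τ * toPerm y22 = toPerm y22 * τ := by
    have h2 : (w'.1 : ↥Co0) * ((gY hV hW hb).1 : ↥Co0) = ((gY hV hW hb).1 : ↥Co0) * (w'.1 : ↥Co0) :=
      congrArg (fun z : ↥(pairG hV hW) => (z.1 : ↥Co0)) hcm.eq
    rw [hwτ, show ((gY hV hW hb).1 : ↥Co0) = mono mem22.2.1.1 empty_mem_CS from rfl, mono_mul_nil,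
      mono_mul_nil] at h2
    exact (perm_unique h2).symm
  obtain ⟨i, P, hP, hi⟩ := exists_of_octOK le_rfl (by simp) mem22.2.1 oct_y22 cand_y22 hτF hperm
  rw [List.mem_singleton.1 hP, (toPerm_powP (show validP y22 = true by decide +kernel) 0).2, pow_zero,
    mul_one] at hi
  have hwY : w' = gY hV hW hb ^ i := by
    refine Subtype.ext (Subtype.ext ?_)
    rw [SubgroupClass.coe_pow, SubgroupClass.coe_pow, hwτ]
    have hp : ∀ n : ℕ, (mono mem22.2.1.1 empty_mem_CS : ↥Co0) ^ n =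
        mono (pow_mem mem22.2.1.1 n) empty_mem_CS := by
      intro n
      induction n with
      | zero => rw [pow_zero, one_eq_mono]; congr 1
      | succ n ih => rw [pow_succ', ih, mono_mul_nil]; congr 1; exact (pow_succ _ _).symm
    rw [show ((gY hV hW hb).1 : ↥Co0) = mono mem22.2.1.1 empty_mem_CS from rfl, hp]
    congr 1
  refine ⟨i % 5, b, Nat.mod_lt _ (by norm_num), hb5, ?_⟩
  rw [← pow_eq_pow_mod i hY', (hcomm.symm.pow_pow i b).eq, ← hwY, hw', mul_inv_cancel_left]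

end

end CfsgLib.Leech.OutPair
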